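import Cfsg.Agent.Lib.SporRecognition.Cert.ON26068.Upper
import Cfsg.Agent.Lib.SporRecognition.Cert.ON6.Upper
import Cfsg.Agent.Lib.SporRecognition.Cert.ON24.Upper

/-! The group presented by the relators of O'N not involving `g`, with `g = 1` adjoined. -/

set_option autoImplicit false
set_option maxRecDepth 20000
set_option linter.constructorNameAsVariable false
set_option Elab.async false

namespace CfsgLib.SporRecognition.ONSub

open CfsgLib.SporRecognition.CosetCert
open CfsgLib.SporRecognition.Cert

def W6core : List (List (Cfsg.Spor.ON.Gen × Bool)) :=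
  ON26068.relW.filter fun w => w.all fun x => decide (x.1 ≠ .g)

def W6 : List (List (Cfsg.Spor.ON.Gen × Bool)) := W6core ++ [[(.g, true)]]

abbrev R6 : Set (FreeGroup Cfsg.Spor.ON.Gen) := {r | r ∈ W6.map FreeGroup.mk}

theorem W6_one : ∀ w ∈ W6, evalW (PresentedGroup.of (rels := R6)) w = 1 := by
  intro w hw
  have h1 : PresentedGroup.mk R6 (FreeGroup.mk w) = 1 :=
    PresentedGroup.one_of_mem (show FreeGroup.mk w ∈ R6 from List.mem_map_of_mem hw)
  have h2 : FreeGroup.lift (PresentedGroup.of (rels := R6)) = PresentedGroup.mk R6 :=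
    FreeGroup.ext_hom _ _ fun a => FreeGroup.lift_apply_of
  rw [evalW, h2]
  exact h1

theorem sect_ON24 : ∃ s : Nat → PresentedGroup R6 ⧸ wordSubgroup R6 ON24.subW,
    s 0 = ((1 : PresentedGroup R6) : PresentedGroup R6 ⧸ wordSubgroup R6 ON24.subW) ∧
    ∀ a ∈ ([.a, .b, .c] : List Cfsg.Spor.ON.Gen), ∀ u, u < 24 → ON24.tabU a u < 24 ∧
      (PresentedGroup.of (rels := R6) a) • s u = s (ON24.tabU a u) :=
  section_of_checks ON24.invols W6 W6_one (by decide +kernel) ON24.subW ON24.lets ON24.data ON24.rtriv ON24.rroot 6 6 rfl rfl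
    (by decide +kernel) (by decide +kernel) (fun k hk => allBelow_spec ON24.defs_ok k hk) (ON24.covers1) (by decide +kernel)
    (by
      intro i hi u hu
      have hi' : i < 3 := hi
      interval_cases i
      · exact allBelow_spec ON24.final1 u hu
      · exact allBelow_spec ON24.final2 u hu
      · exact allBelow_spec ON24.final3 u hu
      ) [.a, .b, .c] ON24.tabU (by
      intro a ha
      fin_cases ha
      · exact ⟨0, by decide, rfl, rfl⟩
      · exact ⟨1, by decide, rfl, rfl⟩
      · exact ⟨2, by decide, rfl, rfl⟩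
      )


theorem sect_ON6 : ∃ s : Nat → PresentedGroup R6 ⧸ wordSubgroup R6 ON6.subW,
    s 0 = ((1 : PresentedGroup R6) : PresentedGroup R6 ⧸ wordSubgroup R6 ON6.subW) ∧
    ∀ a ∈ ([.a, .b, .c, .e, .f] : List Cfsg.Spor.ON.Gen), ∀ u, u < 6 → ON6.tabU a u < 6 ∧
      (PresentedGroup.of (rels := R6) a) • s u = s (ON6.tabU a u) :=
  section_of_checks ON6.invols W6 W6_one (by decide +kernel) ON6.subW ON6.lets ON6.data ON6.rtriv ON6.rroot 15 18 rfl rfl
    (by decide +kernel) (by decide +kernel) (fun k hk => allBelow_spec ON6.defs_ok k hk) (ON6.covers1) (by decide +kernel)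
    (by
      intro i hi u hu
      have hi' : i < 5 := hi
      interval_cases i
      · exact allBelow_spec ON6.final1 u hu
      · exact allBelow_spec ON6.final2 u hu
      · exact allBelow_spec ON6.final3 u hu
      · exact allBelow_spec ON6.final4 u hu
      · exact allBelow_spec ON6.final5 u hu
      ) [.a, .b, .c, .e, .f] ON6.tabU (by
      intro a ha
      fin_cases ha
      · exact ⟨0, by decide, rfl, rfl⟩
      · exact ⟨1, by decide, rfl, rfl⟩
      · exact ⟨2, by decide, rfl, rfl⟩
      · exact ⟨3, by decide, rfl, rfl⟩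
      · exact ⟨4, by decide, rfl, rfl⟩
      )


theorem sect_ON26068 : ∃ s : Nat → PresentedGroup R6 ⧸ wordSubgroup R6 ON26068.subW,
    s 0 = ((1 : PresentedGroup R6) : PresentedGroup R6 ⧸ wordSubgroup R6 ON26068.subW) ∧
    ∀ a ∈ ([.a, .b, .c, .d, .e, .f] : List Cfsg.Spor.ON.Gen), ∀ u, u < 26068 → ON26068.tabU a u < 26068 ∧
      (PresentedGroup.of (rels := R6) a) • s u = s (ON26068.tabU a u) :=
  section_of_checks ON26068.invols W6 W6_one (by decide +kernel) ON26068.subW ON26068.lets ON26068.data ON26068.rtriv ON26068.rroot 22 27 rfl rfl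
    (by decide +kernel) (by decide +kernel) (fun k hk => allBelow_spec ON26068.defs_ok k hk) (ON26068.covers1.trans (ON26068.covers2.trans (ON26068.covers3.trans (ON26068.covers4.trans (ON26068.covers5.trans (ON26068.covers6.trans (ON26068.covers7))))))) (by decide +kernel)
    (by
      intro i hi u hu
      have hi' : i < 6 := hi
      interval_cases i
      · exact allBelow_spec ON26068.final1 u hu
      · exact allBelow_spec ON26068.final2 u hu
      · exact allBelow_spec ON26068.final3 u hu
      · exact allBelow_spec ON26068.final4 u hu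
      · exact allBelow_spec ON26068.final5 u hu
      · exact allBelow_spec ON26068.final6 u hu
      ) [.a, .b, .c, .d, .e, .f] ON26068.tabU (by
      intro a ha
      fin_cases ha
      · exact ⟨0, by decide, rfl, rfl⟩
      · exact ⟨1, by decide, rfl, rfl⟩
      · exact ⟨2, by decide, rfl, rfl⟩
      · exact ⟨3, by decide, rfl, rfl⟩
      · exact ⟨4, by decide, rfl, rfl⟩
      · exact ⟨5, by decide, rfl, rfl⟩
      )


theorem upper : Finite (PresentedGroup R6) ∧ Nat.card (PresentedGroup R6) ≤ 3753792 := by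
  have b0 : Bound R6 ([] : List (List (Cfsg.Spor.ON.Gen × Bool))) 1 := bound_nil
  have b1 : Bound R6 (([.a, .b, .c] : List Cfsg.Spor.ON.Gen).map fun a => [(a, true)]) 24 :=
    (Bound.extend (WH := ON24.subW) b0 ([.a, .b, .c] : List Cfsg.Spor.ON.Gen) (by decide +kernel) 24 (by decide) ON24.tabU sect_ON24).mono (by decide)
  have b2 : Bound R6 (([.a, .b, .c, .e, .f] : List Cfsg.Spor.ON.Gen).map fun a => [(a, true)]) 144 :=
    (Bound.extend (WH := ON6.subW) b1 ([.a, .b, .c, .e, .f] : List Cfsg.Spor.ON.Gen) (by decide +kernel) 6 (by decide) ON6.tabU sect_ON6).mono (by decide)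
  obtain ⟨h0, h1⟩ := (Bound.extend (WH := ON26068.subW) b2 ([.a, .b, .c, .d, .e, .f] : List Cfsg.Spor.ON.Gen) (by decide +kernel) 26068 (by decide) ON26068.tabU sect_ON26068).mono (show 26068 * 144 ≤ 3753792 by decide)
  have htop : wordSubgroup R6 (([.a, .b, .c, .d, .e, .f] : List Cfsg.Spor.ON.Gen).map fun a => [(a, true)]) = ⊤ := by
    rw [eq_top_iff, ← PresentedGroup.closure_range_of R6, Subgroup.closure_le]
    rintro _ ⟨a, rfl⟩
    by_cases ha : a = .g
    · subst ha
      have h : PresentedGroup.of (rels := R6) .g = 1 := by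
        simpa [evalW_eq_prod] using W6_one [(.g, true)] (by decide +kernel)
      rw [SetLike.mem_coe, h]
      exact one_mem _
    · refine Subgroup.subset_closure (List.mem_map.mpr ⟨[(a, true)], List.mem_map.mpr ⟨a, ?_, rfl⟩, by simp [evalW_eq_prod]⟩)
      cases a <;> first | exact absurd rfl ha | decide
  rw [htop, Subgroup.card_top] at h0 h1
  exact ⟨Nat.finite_of_card_ne_zero h0, h1⟩

end CfsgLib.SporRecognition.ONSub
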