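import Cfsg.Agent.Lib.SporRecognition.Cert.ONL37.PermBase
import Cfsg.Agent.Lib.SporRecognition.Cert.ONL37.Lower
import Cfsg.Agent.Lib.SporRecognition.ONSub.Presented

/-! Collineations and correlations of PG(2,7) given by the tables on the 57 points and 57 lines. -/

set_option autoImplicit false
set_option maxRecDepth 20000
set_option linter.constructorNameAsVariable false
set_option Elab.async false

namespace CfsgLib.SporRecognition.ONSub

open CfsgLib.SporRecognition.CosetCert
open CfsgLib.SporRecognition.Cert.ONL37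
open Cfsg.Spor.ON (Gen)
open scoped Matrix

instance : Fact (Nat.Prime 7) := ⟨by norm_num⟩

abbrev SL : Type := Matrix.SpecialLinearGroup (Fin 3) (ZMod 7)

/-- The vector of the point or line `u`. -/
noncomputable def pvec (u : Nat) : Fin 3 → ZMod 7 := fun k => (coord (u % 57) k : ℕ)

/-- The symmetric matrices of the generators. -/
def sg : Gen → SL
  | .g => 1
  | a => ⟨Matrix.of fun i j => (matN a i j : ℕ), by cases a <;> decide +kernel⟩

/-- Inverse transpose. -/
def invT : SL →* SL where
  toFun A := (A⁻¹).transpose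
  map_one' := by ext i j; simp [Matrix.one_apply, eq_comm]
  map_mul' A B := by
    apply Subtype.ext
    simp [Matrix.SpecialLinearGroup.coe_mul, Matrix.transpose_mul, mul_inv_rev]

theorem invT_invT (A : SL) : invT (invT A) = A := by
  have h : ∀ B : SL, invT B = (B⁻¹).transpose := fun _ => rfl
  apply inv_injective
  apply Subtype.ext
  have h1 : invT (invT A) * invT (invT A⁻¹) = 1 := by rw [← map_mul, ← map_mul, mul_inv_cancel, map_one, map_one]
  have h2 : (invT (invT A⁻¹) : SL) = A⁻¹ := by
    have e : invT A⁻¹ = A.transpose := by rw [h, inv_inv]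
    rw [e, h]
    have e2 : (A.transpose : SL) * (A⁻¹).transpose = 1 := by
      apply Subtype.ext
      rw [Matrix.SpecialLinearGroup.coe_mul]
      simp only [Matrix.SpecialLinearGroup.coe_transpose]
      rw [← Matrix.transpose_mul, ← Matrix.SpecialLinearGroup.coe_mul, inv_mul_cancel]
      simp
    rw [inv_eq_of_mul_eq_one_right e2]
    apply Subtype.ext
    simp [Matrix.SpecialLinearGroup.coe_transpose, Matrix.transpose_transpose]
  rw [h2] at h1
  rw [inv_eq_of_mul_eq_one_right h1]

/-- `A` or its inverse transpose, according to the side. -/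
def onSide (s : Bool) (A : SL) : SL := bif s then invT A else A

theorem onSide_mul (s : Bool) (A B : SL) : onSide s (A * B) = onSide s A * onSide s B := by
  cases s
  · rfl
  · exact map_mul invT A B

theorem onSide_onSide (s t : Bool) (A : SL) : onSide s (onSide t A) = onSide (xor s t) A := by
  cases s <;> cases t <;> first | rfl | exact invT_invT A

/-- The side of `u`: `true` for lines. -/
def side (u : Nat) : Bool := decide (57 ≤ u)

/-- `A` induces the permutation `π`, exchanging the sides iff `ε`. -/
def Induces (ε : Bool) (A : SL) (π : Equiv.Perm (Fin 114)) : Prop :=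
  ∀ u : Fin 114, side (π u) = xor (side u) ε ∧
    ∃ c : ZMod 7, c ≠ 0 ∧ (onSide (side u) A : SL).1 *ᵥ pvec u = c • pvec (π u)

theorem induces_one : Induces false 1 1 := by
  refine fun u => ⟨by simp, 1, one_ne_zero, ?_⟩
  have : onSide (side u) (1 : SL) = 1 := by
    cases side u
    · rfl
    · exact map_one invT
  rw [this]
  simp

theorem Induces.mul {ε δ : Bool} {A B : SL} {π ρ : Equiv.Perm (Fin 114)} (hA : Induces ε A π)
    (hB : Induces δ B ρ) : Induces (xor δ ε) (onSide δ A * B) (π * ρ) := by
  intro u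
  obtain ⟨hs1, c1, hc1, h1⟩ := hB u
  obtain ⟨hs2, c2, hc2, h2⟩ := hA (ρ u)
  refine ⟨?_, c1 * c2, mul_ne_zero hc1 hc2, ?_⟩
  · rw [Equiv.Perm.mul_apply, hs2, hs1, Bool.xor_assoc]
  · rw [onSide_mul, onSide_onSide, Matrix.SpecialLinearGroup.coe_mul, ← Matrix.mulVec_mulVec, h1,
      Matrix.mulVec_smul, ← hs1, h2, smul_smul, Equiv.Perm.mul_apply]

/-- One coordinate of the check that a table comes from the matrix. -/
noncomputable def coordStep (a : Gen) (u k : Nat) : Bool :=
  let M : Nat → Nat := fun j => bif Nat.blt u 57 then matN a k j else invN a k j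
  Nat.beq (Nat.mod (Nat.add (Nat.add (Nat.mul (M 0) (coord (u % 57) 0)) (Nat.mul (M 1) (coord (u % 57) 1)))
      (Nat.mul (M 2) (coord (u % 57) 2))) 7)
    (Nat.mod (Nat.mul (coef a u) (coord (tabs a true u % 57) k)) 7)

noncomputable def pointStep (a : Gen) (u : Nat) : Bool :=
  coordStep a u 0 && coordStep a u 1 && coordStep a u 2 && !(Nat.beq (Nat.mod (coef a u) 7) 0) &&
    (bif Nat.blt u 57 then !(Nat.blt (tabs a true u) 57) else Nat.blt (tabs a true u) 57)

theorem point_b : allBelow 7 114 (pointStep .b) = true := by decide +kernel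
theorem point_a : allBelow 7 114 (pointStep .a) = true := by decide +kernel
theorem point_c : allBelow 7 114 (pointStep .c) = true := by decide +kernel
theorem point_d : allBelow 7 114 (pointStep .d) = true := by decide +kernel
theorem point_e : allBelow 7 114 (pointStep .e) = true := by decide +kernel
theorem point_f : allBelow 7 114 (pointStep .f) = true := by decide +kernel

theorem invT_sg : ∀ a i j, a ≠ Gen.g → (invT (sg a) : SL).1 i j = (invN a i j : ℕ) := by
  intro a i j ha
  have e : (invT (sg a) : SL).1 = (Matrix.of fun i j : Fin 3 => (invN a i j : ZMod 7)) := by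
    have h1 : (invT (sg a) : SL).1 = ((sg a).1.adjugate).transpose := by
      show ((sg a)⁻¹ : SL).1.transpose = _
      rw [Matrix.SpecialLinearGroup.coe_inv]
    rw [h1]
    cases a <;> first | exact absurd rfl ha | decide +kernel
  rw [e]
  rfl

theorem induces_gen (a : Gen) (ha : a ≠ .g) : Induces true (sg a) (tabPerm tablesOK a) := by
  intro u
  have hs : pointStep a u = true := by
    cases a
    · exact absurd rfl ha
    · exact allBelow_spec point_a u u.2
    · exact allBelow_spec point_b u u.2
    · exact allBelow_spec point_c u u.2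
    · exact allBelow_spec point_d u u.2
    · exact allBelow_spec point_e u u.2
    · exact allBelow_spec point_f u u.2
  simp only [pointStep, coordStep, Bool.and_eq_true] at hs
  obtain ⟨⟨⟨⟨h0, h1⟩, h2⟩, hc⟩, hside⟩ := hs
  refine ⟨?_, (coef a u : ℕ), ?_, ?_⟩
  · rw [tabPerm_val]
    by_cases hu : (u : Nat) < 57
    · have : Nat.blt (u : Nat) 57 = true := by simpa [Nat.blt_eq] using hu
      rw [this, cond_true] at hside
      simp only [Bool.not_eq_true', ← Bool.not_eq_true, Nat.blt_eq] at hside
      simp [side, Nat.not_le.mpr hu, Nat.not_lt.mp hside]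
    · have : Nat.blt (u : Nat) 57 = false := by simpa [← Bool.not_eq_true, Nat.blt_eq] using hu
      rw [this, cond_false] at hside
      simp only [Nat.blt_eq] at hside
      simp [side, Nat.not_lt.mp hu, Nat.not_le.mpr hside]
  · rw [Ne, ZMod.natCast_eq_zero_iff, Nat.dvd_iff_mod_eq_zero]
    intro h
    have : Nat.beq (Nat.mod (coef a u) 7) 0 = true := by
      show Nat.beq (coef a u % 7) 0 = true
      rw [h]; rfl
    rw [this] at hc
    exact absurd hc (by decide)
  · have key : ∀ k, Nat.beq
        (Nat.mod (Nat.add (Nat.add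
          (Nat.mul ((fun j => bif Nat.blt u 57 then matN a k j else invN a k j) 0) (coord ((u : Nat) % 57) 0))
          (Nat.mul ((fun j => bif Nat.blt u 57 then matN a k j else invN a k j) 1) (coord ((u : Nat) % 57) 1)))
          (Nat.mul ((fun j => bif Nat.blt u 57 then matN a k j else invN a k j) 2) (coord ((u : Nat) % 57) 2))) 7)
        (Nat.mod (Nat.mul (coef a u) (coord (tabs a true u % 57) k)) 7) = true →
      ((bif Nat.blt u 57 then matN a k 0 else invN a k 0 : ℕ) : ZMod 7) * (coord ((u : Nat) % 57) 0 : ℕ) +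
        ((bif Nat.blt u 57 then matN a k 1 else invN a k 1 : ℕ) : ZMod 7) * (coord ((u : Nat) % 57) 1 : ℕ) +
        ((bif Nat.blt u 57 then matN a k 2 else invN a k 2 : ℕ) : ZMod 7) * (coord ((u : Nat) % 57) 2 : ℕ) =
        (coef a u : ZMod 7) * (coord (tabs a true u % 57) k : ℕ) := by
      intro k hk
      have e := congrArg (Nat.cast (R := ZMod 7)) (Nat.eq_of_beq_eq_true hk)
      rw [show ∀ a b, Nat.mod a b = a % b from fun _ _ => rfl, show ∀ a b, Nat.mod a b = a % b from fun _ _ => rfl,
        ZMod.natCast_mod, ZMod.natCast_mod] at e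
      simpa only [show ∀ a b, Nat.add a b = a + b from fun _ _ => rfl,
        show ∀ a b, Nat.mul a b = a * b from fun _ _ => rfl, Nat.cast_add, Nat.cast_mul] using e
    have hmat : ∀ i j : Fin 3, (onSide (side u) (sg a) : SL).1 i j =
        ((bif Nat.blt u 57 then matN a i j else invN a i j : ℕ) : ZMod 7) := by
      intro i j
      by_cases hu : (u : Nat) < 57
      · have hb : Nat.blt (u : Nat) 57 = true := by simpa [Nat.blt_eq] using hu
        have hsd : side u = false := by simp [side, Nat.not_le.mpr hu]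
        rw [hb, hsd, cond_true]
        cases a <;> first | exact absurd rfl ha | rfl
      · have hb : Nat.blt (u : Nat) 57 = false := by simpa [← Bool.not_eq_true, Nat.blt_eq] using hu
        have hsd : side u = true := by simp [side, Nat.not_lt.mp hu]
        rw [hb, hsd, cond_false]
        exact invT_sg a i j ha
    funext k
    simp only [Matrix.mulVec, dotProduct, Fin.sum_univ_three, Pi.smul_apply, smul_eq_mul, pvec, hmat, tabPerm_val]
    fin_cases k
    · exact key 0 h0
    · exact key 1 h1
    · exact key 2 h2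

theorem std_chk : stdPts = stdPts ∧ (∀ i : Fin 4, stdPts.getD i 0 < 57) ∧
    ∀ (i : Fin 4) (j : Fin 3), pvec (stdPts.getD i 0) j = if (i : Nat) = 3 then 1 else if (i : Nat) = (j : Nat) then 1 else 0 := by
  refine ⟨rfl, by decide +kernel, ?_⟩
  unfold pvec
  decide +kernel

/-- A matrix fixing all the points is central. -/
theorem central_of_fix {A : SL} {π : Equiv.Perm (Fin 114)} (h : Induces false A π)
    (hfix : ∀ u : Fin 114, (u : Nat) < 57 → π u = u) : A ∈ Subgroup.center SL := by
  obtain ⟨-, hlt, hv⟩ := std_chk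
  have hpt : ∀ i : Fin 4, ∃ c : ZMod 7, A.1 *ᵥ pvec (stdPts.getD i 0) = c • pvec (stdPts.getD i 0) := by
    intro i
    have hi : stdPts.getD i 0 < 114 := lt_trans (hlt i) (by norm_num)
    obtain ⟨-, c, -, hc⟩ := h ⟨_, hi⟩
    have hsd : side (stdPts.getD i 0) = false := decide_eq_false (Nat.not_le.mpr (hlt i))
    rw [hfix ⟨_, hi⟩ (hlt i)] at hc
    simp only [hsd] at hc
    exact ⟨c, hc⟩
  obtain ⟨c0, h0⟩ := hpt 0
  obtain ⟨c1, h1⟩ := hpt 1
  obtain ⟨c2, h2⟩ := hpt 2
  obtain ⟨c, h3⟩ := hpt 3
  have e : ∀ (i : Fin 4) (j : Fin 3) (d : ZMod 7), A.1 *ᵥ pvec (stdPts.getD i 0) = d • pvec (stdPts.getD i 0) →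
      A.1 j 0 * (if (i : Nat) = 3 then 1 else if (i : Nat) = 0 then 1 else 0) +
        A.1 j 1 * (if (i : Nat) = 3 then 1 else if (i : Nat) = 1 then 1 else 0) +
        A.1 j 2 * (if (i : Nat) = 3 then 1 else if (i : Nat) = 2 then 1 else 0) =
      d * (if (i : Nat) = 3 then 1 else if (i : Nat) = (j : Nat) then 1 else 0) := by
    intro i j d hd
    have := congrFun hd j
    simp only [Matrix.mulVec, dotProduct, Fin.sum_univ_three, Pi.smul_apply, smul_eq_mul, hv] at this
    exact this
  have a00 := e 0 0 c0 h0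
  have a10 := e 0 1 c0 h0
  have a20 := e 0 2 c0 h0
  have a01 := e 1 0 c1 h1
  have a11 := e 1 1 c1 h1
  have a21 := e 1 2 c1 h1
  have a02 := e 2 0 c2 h2
  have a12 := e 2 1 c2 h2
  have a22 := e 2 2 c2 h2
  have b0 := e 3 0 c h3
  have b1 := e 3 1 c h3
  have b2 := e 3 2 c h3
  simp at a00 a10 a20 a01 a11 a21 a02 a12 a22 b0 b1 b2
  have hA : A.1 = Matrix.scalar (Fin 3) c := by
    ext i j
    fin_cases i <;> fin_cases j <;> simp [Matrix.scalar_apply] <;>
      first
        | assumption
        | linear_combination b0 - a01 - a02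
        | linear_combination b1 - a10 - a12
        | linear_combination b2 - a20 - a21
  refine Matrix.SpecialLinearGroup.mem_center_iff.mpr ⟨c, ?_, hA.symm⟩
  have hdet := A.2
  rw [hA, Matrix.scalar_apply, Matrix.det_diagonal, Finset.prod_const, Finset.card_univ] at hdet
  exact hdet

theorem Induces.central_invT {A : SL} (h : A ∈ Subgroup.center SL) : invT A ∈ Subgroup.center SL := by
  rw [Subgroup.mem_center_iff]
  intro B
  have := congrArg invT (Subgroup.mem_center_iff.mp h (invT B))
  rwa [map_mul, map_mul, invT_invT] at this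

theorem pts_distinct : ∀ u : Fin 57, ∀ v : Fin 57, ∀ c : Fin 7,
    ((Nat.mod (Nat.mul c (coord v 0)) 7 == coord u 0) && (Nat.mod (Nat.mul c (coord v 1)) 7 == coord u 1) &&
      (Nat.mod (Nat.mul c (coord v 2)) 7 == coord u 2)) = true → u = v := by decide +kernel

theorem coord_lt : ∀ u : Fin 57, coord u 0 < 7 ∧ coord u 1 < 7 ∧ coord u 2 < 7 := by decide +kernel

/-- A central matrix induces only the identity. -/
theorem eq_one_of_central {A : SL} {π : Equiv.Perm (Fin 114)} (h : Induces false A π)
    (hA : A ∈ Subgroup.center SL) : π = 1 := by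
  refine Equiv.ext fun u => ?_
  obtain ⟨hs, c, hc, hu⟩ := h u
  have hcen : onSide (side u) A ∈ Subgroup.center SL := by
    cases side (u : Nat)
    · exact hA
    · exact Induces.central_invT hA
  obtain ⟨r, -, hr⟩ := Matrix.SpecialLinearGroup.mem_center_iff.mp hcen
  rw [← hr, Matrix.scalar_apply, ← Matrix.smul_one_eq_diagonal, Matrix.smul_mulVec, Matrix.one_mulVec] at hu
  have hc7 : r ≠ 0 := by
    intro hr0
    have := (onSide (side u) A).2
    rw [← hr, hr0] at this
    simp [Matrix.det_diagonal] at this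
  have heq : ∀ k : Fin 3, ((c * r⁻¹ : ZMod 7)) * (coord ((π u : Fin 114) % 57 : Nat) k : ℕ) = (coord ((u : Nat) % 57) k : ℕ) := by
    intro k
    have := congrFun hu k
    simp only [Pi.smul_apply, smul_eq_mul, pvec] at this
    field_simp
    linear_combination -this
  have hnat : ∀ k : Fin 3, Nat.mod (Nat.mul (c * r⁻¹).val (coord ((π u : Fin 114) % 57 : Nat) k)) 7 =
      coord ((u : Nat) % 57) k % 7 := by
    intro k
    show (c * r⁻¹).val * _ % 7 = _
    rw [← ZMod.natCast_eq_natCast_iff', Nat.cast_mul, ZMod.natCast_zmod_val]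
    exact heq k
  have hu57 : (u : Nat) % 57 < 57 := Nat.mod_lt _ (by norm_num)
  obtain ⟨l0, l1, l2⟩ := coord_lt ⟨_, hu57⟩
  have := pts_distinct ⟨_, hu57⟩ ⟨(π u : Fin 114) % 57, Nat.mod_lt _ (by norm_num)⟩
    ⟨(c * r⁻¹).val, ZMod.val_lt _⟩ (by
      simp only [Bool.and_eq_true, beq_iff_eq]
      exact ⟨⟨(hnat 0).trans (Nat.mod_eq_of_lt l0), (hnat 1).trans (Nat.mod_eq_of_lt l1)⟩,
        (hnat 2).trans (Nat.mod_eq_of_lt l2)⟩)
  have e : (u : Nat) % 57 = (π u : Fin 114) % 57 := congrArg Fin.val this
  simp only [side, Bool.xor_false, decide_eq_decide] at hs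
  apply Fin.ext
  have := (π u).2
  have := u.2
  show ((π u : Fin 114) : Nat) = (u : Nat)
  omega

end CfsgLib.SporRecognition.ONSub
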